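import Cfsg.Agent.H2.Fi23C.Basic

/-!
S3233: a Sylow subgroup of the centraliser of `z` and `a` is a Sylow subgroup of the group; the
classes of `z`, `a`, `az`.
-/

set_option autoImplicit false
set_option linter.style.haveILetI false
set_option linter.unusedSectionVars false

namespace H53.Fi23C

open H2.Fi23C H39.Fi22C

universe u v

variable {G : Type u} [Group G] [Finite G] {F : Type v} [Field F] [Fintype F] {z a b c : G}
  {J K₀ : Subgroup G} {π : ↥K₀ →* Cfsg.PSp 2 F}

theorem mem_cent_z {g : G} : g ∈ Subgroup.centralizer ({z} : Set G) ↔ Commute g z :=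
  Subgroup.mem_centralizer_singleton_iff

theorem conj_mul_conj (g x y : G) : g * x * g⁻¹ * (g * y * g⁻¹) = g * (x * y) * g⁻¹ := by group

theorem three_cycle {α : Type*} {f : α → α} (hf : Function.Injective f) {x y w : α} (hxy : x ≠ y)
    (hxw : x ≠ w) (hyw : y ≠ w) (hx : f x = x ∨ f x = y ∨ f x = w)
    (hy : f y = x ∨ f y = y ∨ f y = w) (hw : f w = x ∨ f w = y ∨ f w = w) (hne : f x ≠ x) :
    f (f x) = x ∨ f (f (f x)) = x := by
  rcases hx with hx | hx | hx <;> rcases hy with hy | hy | hy <;> rcases hw with hw | hw | hw <;>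
    first
      | exact absurd hx hne
      | exact absurd (hf (hx.trans hy.symm)) hxy
      | exact absurd (hf (hx.trans hw.symm)) hxw
      | exact absurd (hf (hy.trans hw.symm)) hyw
      | (left; rw [hx]; assumption)
      | (right; rw [hx]; simp [hy, hw])

theorem inW_mul (S : Setup4 z a b c J K₀ π) {p q : G} (hp : InW a b p) (hq : InW a b q) :
    InW a b (p * q) := by
  have e1 : a * (a * b) = b := by rw [← mul_assoc, S.a_sq, one_mul]
  have e2 : b * (a * b) = a := by rw [S.ab_comm.eq, ← mul_assoc, S.b_sq, one_mul]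
  have e3 : a * b * a = b := by rw [mul_assoc, ← S.ab_comm.eq, e1]
  have e4 : a * b * b = a := by rw [mul_assoc, S.b_sq, mul_one]
  have e5 : a * b * (a * b) = 1 := by rw [mul_assoc, e2, S.a_sq]
  rcases hp with rfl | rfl | rfl | rfl <;> rcases hq with rfl | rfl | rfl | rfl <;>
    simp [InW, e1, e2, e3, e4, e5, S.a_sq, S.b_sq, S.ab_comm.symm.eq]

theorem inW_of_isA {e : G} (h : IsA a b e) : InW a b e := Or.inr h

theorem commute_W_a (S : Setup4 z a b c J K₀ π) {w : G} (hw : InW a b w) :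
    Commute w a ∧ Commute w b := by
  rcases hw with rfl | rfl | rfl | rfl
  · exact ⟨Commute.one_left _, Commute.one_left _⟩
  · exact ⟨Commute.refl _, S.ab_comm⟩
  · exact ⟨S.ab_comm.symm, Commute.refl _⟩
  · exact ⟨(Commute.refl _).mul_left S.ab_comm.symm, S.ab_comm.mul_left (Commute.refl _)⟩

theorem a_commute_z (S : Setup4 z a b c J K₀ π) : Commute a z :=
  mem_cent_z.1 (S.le_cent (S.J_le S.a_mem))

theorem b_commute_z (S : Setup4 z a b c J K₀ π) : Commute b z :=
  mem_cent_z.1 (S.le_cent (S.J_le S.b_mem))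

theorem commute_W_z (S : Setup4 z a b c J K₀ π) {w : G} (hw : InW a b w) : Commute w z := by
  rcases hw with rfl | rfl | rfl | rfl
  · exact Commute.one_left _
  · exact a_commute_z S
  · exact b_commute_z S
  · exact (a_commute_z S).mul_left (b_commute_z S)

theorem z_not_inW (S : Setup4 z a b c J K₀ π) : ¬ InW a b z := by
  rintro (h | h | h | h)
  · exact S.ne_one h
  · exact S.a_ne.2 h.symm
  · exact S.b_ne.2.1 h.symm
  · exact S.ab_ne h.symm

theorem normW_mul {g h : G} (hg : NormW a b g) (hh : NormW a b h) : NormW a b (g * h) := by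
  intro w hw
  rw [show g * h * w * (g * h)⁻¹ = g * (h * w * h⁻¹) * g⁻¹ by group]
  exact hg _ (hh w hw)

theorem normW_inv {g : G} (hg : NormW a b g) : NormW a b g⁻¹ := by
  have hp : ∀ k : ℕ, NormW a b (g ^ k) := by
    intro k
    induction k with
    | zero => intro w hw; simpa using hw
    | succ k ih => rw [pow_succ]; exact normW_mul ih hg
  have e : g⁻¹ = g ^ (orderOf g - 1) := by
    refine inv_eq_of_mul_eq_one_right ?_
    rw [← pow_succ', Nat.sub_add_cancel (orderOf_pos g), pow_orderOf_eq_one]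
  rw [e]
  exact hp _

theorem exists_noncomm (S : Setup4 z a b c J K₀ π) :
    ∃ p ∈ J, ∃ q ∈ J, p * q = q * p * z := by
  by_contra hno
  push Not at hno
  have hZ : ∀ p ∈ J, InZ z a b p := fun p hp => S.center p hp fun q hq =>
    (S.comm_mem p hp q hq).resolve_right (hno p hp q hq)
  have hsub : (J : Set G) ⊆ ({1, a, b, a * b, z, a * z, b * z, a * b * z} : Set G) := by
    intro p hp
    rcases hZ p hp with h | h
    · rcases h with rfl | rfl | rfl | rfl <;> simp
    · have e : p = p * z * z := by rw [mul_assoc, S.sq, mul_one]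
      rcases h with h | h | h | h <;> rw [h] at e <;> simp [e]
  have hle := Set.ncard_le_ncard hsub
  rw [← Nat.card_coe_set_eq (J : Set G)] at hle
  have hJ : Nat.card ((J : Set G) : Type u) = 2 ^ 11 := S.card_J
  rw [hJ] at hle
  have h8 : ({1, a, b, a * b, z, a * z, b * z, a * b * z} : Set G).ncard ≤ 8 := by
    refine le_trans (Set.ncard_insert_le _ _) (Nat.succ_le_succ ?_)
    refine le_trans (Set.ncard_insert_le _ _) (Nat.succ_le_succ ?_)
    refine le_trans (Set.ncard_insert_le _ _) (Nat.succ_le_succ ?_)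
    refine le_trans (Set.ncard_insert_le _ _) (Nat.succ_le_succ ?_)
    refine le_trans (Set.ncard_insert_le _ _) (Nat.succ_le_succ ?_)
    refine le_trans (Set.ncard_insert_le _ _) (Nat.succ_le_succ ?_)
    refine le_trans (Set.ncard_insert_le _ _) (Nat.succ_le_succ ?_)
    rw [Set.ncard_singleton]
  omega

/-- An element normalising `W` which maps `z` into `zW` fixes `z`. -/
theorem fix_z_of_normW (S : Setup4 z a b c J K₀ π) {g : G} (hg : NormW a b g)
    (hgz : InW a b (g * z * g⁻¹ * z)) : g * z * g⁻¹ = z := by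
  set z' := g * z * g⁻¹ with hz'
  set w := z' * z with hw
  have hz'w : z' = w * z := by rw [hw, mul_assoc, S.sq, mul_one]
  have hK : ∀ h ∈ K₀, ∀ x : G, (x = g ∨ x = g⁻¹) → x * h * x⁻¹ ∈ K₀ := by
    intro h hh x hx
    have hW : ∀ u, InW a b u → Commute u h := by
      rintro u (rfl | rfl | rfl | rfl)
      · exact Commute.one_left _
      · exact S.a_K₀ h hh
      · exact S.b_K₀ h hh
      · exact (S.a_K₀ h hh).mul_left (S.b_K₀ h hh)
    have hhz : Commute h z := mem_cent_z.1 (S.le_cent hh)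
    have hWx : ∀ u, InW a b u → Commute u (x * h * x⁻¹) := by
      intro u hu
      have hn : NormW a b x⁻¹ := by
        rcases hx with rfl | rfl
        · exact normW_inv hg
        · rwa [inv_inv]
      have h1 := hn u hu
      rw [inv_inv] at h1
      have h2 := (hW _ h1).map (MulAut.conj x).toMonoidHom
      simpa [mul_assoc] using h2
    refine S.mem_K₀ _ (mem_cent_z.2 ?_) (hWx a (Or.inr (Or.inl rfl)))
      (hWx b (Or.inr (Or.inr (Or.inl rfl))))
    rcases hx with rfl | rfl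
    · have h1 := hhz.map (MulAut.conj x).toMonoidHom
      simp only [MulEquiv.coe_toMonoidHom, MulAut.conj_apply] at h1
      have e : z = w⁻¹ * z' := by rw [hz'w, inv_mul_cancel_left]
      rw [e]
      exact ((hWx w hgz).symm.inv_right).mul_right h1
    · have h1 : Commute h (g * z * g⁻¹) := by
        rw [← hz', hz'w]
        exact ((hW w hgz).symm).mul_right hhz
      have h2 := h1.map (MulAut.conj g⁻¹).toMonoidHom
      simpa [mul_assoc] using h2
  have hJ' : ∀ p ∈ J, g * p * g⁻¹ ∈ J := by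
    intro p hp
    haveI : Fact (Nat.Prime 2) := ⟨Nat.prime_two⟩
    set J' : Subgroup G := J.map (MulAut.conj g).toMonoidHom with hJ'
    have hle : J' ≤ K₀ := by
      rintro _ ⟨q, hq, rfl⟩
      exact hK q (S.J_le hq) g (Or.inl rfl)
    haveI := S.simple_psp
    set N := (J'.subgroupOf K₀).map π with hN
    have hNn : N.Normal := by
      refine Subgroup.Normal.map ⟨?_⟩ π S.π_surj
      rintro ⟨x, hxK⟩ hx ⟨k, hk⟩
      rw [Subgroup.mem_subgroupOf] at hx ⊢
      obtain ⟨q, hq, e⟩ := hx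
      refine ⟨g⁻¹ * k * g * q * (g⁻¹ * k * g)⁻¹, S.conj_mem _ (S.le_cent ?_) q hq, ?_⟩
      · have := hK k hk g⁻¹ (Or.inr rfl)
        rwa [inv_inv] at this
      · show g * (g⁻¹ * k * g * q * (g⁻¹ * k * g)⁻¹) * g⁻¹ = k * x * k⁻¹
        rw [← show g * q * g⁻¹ = x from e]
        group
    have hJ'2 : IsPGroup 2 ↥J' := (IsPGroup.of_card S.card_J).map _
    have hN2 : IsPGroup 2 ↥N := (hJ'2.comap_of_injective K₀.subtype K₀.subtype_injective).map π
    have hbot : N = ⊥ := by
      rcases hNn.eq_bot_or_eq_top with h | h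
      · exact h
      · exfalso
        haveI : Finite (Cfsg.PSp 2 F) := Finite.of_surjective π S.π_surj
        obtain ⟨k, hk⟩ := IsPGroup.iff_card.1 hN2
        rw [h, Subgroup.card_top, S.card_psp] at hk
        have h5 : 5 ∣ 2 ^ k := hk ▸ (by norm_num : 5 ∣ 25920)
        have := Nat.Prime.dvd_of_dvd_pow (by norm_num : Nat.Prime 5) h5
        norm_num at this
    have hmem : (⟨g * p * g⁻¹, hle ⟨p, hp, rfl⟩⟩ : K₀) ∈ J'.subgroupOf K₀ := ⟨p, hp, rfl⟩
    have h1 : π ⟨g * p * g⁻¹, hle ⟨p, hp, rfl⟩⟩ ∈ N := Subgroup.mem_map_of_mem π hmem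
    rw [hbot, Subgroup.mem_bot] at h1
    exact (S.π_ker _).1 h1
  obtain ⟨p, hp, q, hq, hpq⟩ := exists_noncomm S
  have h1 : g * p * g⁻¹ * (g * q * g⁻¹) = g * q * g⁻¹ * (g * p * g⁻¹) * z' := by
    rw [hz', conj_mul_conj, conj_mul_conj, conj_mul_conj, hpq]
  rcases S.comm_mem _ (hJ' p hp) _ (hJ' q hq) with h2 | h2
  · exfalso
    have h3 : z' = 1 := mul_left_cancel ((h1.symm.trans h2).trans (mul_one _).symm)
    exact S.ne_one (by simpa [hz', mul_inv_eq_one] using h3)
  · exact mul_left_cancel (h1.symm.trans h2)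

theorem z_fix_of_mem_cent (S : Setup4 z a b c J K₀ π) {g : G}
    (hg : g ∈ Subgroup.centralizer ({z} : Set G)) : g * z * g⁻¹ = z :=
  mul_inv_eq_iff_eq_mul.2 (mem_cent_z.1 hg).eq

/-- The centraliser of `z` and `a`. -/
def Caz (z a : G) : Subgroup G :=
  Subgroup.centralizer ({z} : Set G) ⊓ Subgroup.centralizer ({a} : Set G)

theorem K₀_le_Caz (S : Setup4 z a b c J K₀ π) : K₀ ≤ Caz z a := fun g hg =>
  ⟨S.le_cent hg, Subgroup.mem_centralizer_singleton_iff.2 (S.a_K₀ g hg).symm⟩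

theorem card_Caz (S : Setup4 z a b c J K₀ π) : Nat.card (Caz z a) = 2 ^ 18 * 405 := by
  have hle : Caz z a ≤ Subgroup.centralizer ({z} : Set G) := inf_le_left
  obtain ⟨o, hoC, hoa, hob⟩ := S.outer
  have ho : o ∈ Caz z a :=
    ⟨hoC, Subgroup.mem_centralizer_singleton_iff.2 (mul_inv_eq_iff_eq_mul.1 hoa)⟩
  have hoK : o ∉ K₀ := fun h => S.b_ne.2.2.1 (by
    have h1 : o * b * o⁻¹ = b := mul_inv_eq_iff_eq_mul.2 (S.b_K₀ o h).symm.eq
    rw [hob] at h1
    exfalso
    exact S.a_ne.1 (mul_eq_right.1 h1))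
  have h1 := ((Caz z a).subgroupOf (Subgroup.centralizer ({z} : Set G))).card_mul_index
  rw [Nat.card_congr (Subgroup.subgroupOfEquivOfLe hle).toEquiv, S.card_cent] at h1
  have h2 := (K₀.subgroupOf (Caz z a)).card_mul_index
  rw [Nat.card_congr (Subgroup.subgroupOfEquivOfLe (K₀_le_Caz S)).toEquiv, S.card_K₀] at h2
  set i := ((Caz z a).subgroupOf (Subgroup.centralizer ({z} : Set G))).index with hi
  set j := (K₀.subgroupOf (Caz z a)).index with hj
  have hij : j * i = 6 := by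
    rw [← h2] at h1
    nlinarith
  have hj1 : j ≠ 1 := fun h => hoK
    (Subgroup.relIndex_eq_one.1 (show K₀.relIndex (Caz z a) = 1 from h) ho)
  have hi1 : i ≠ 1 := fun h => S.b_ne.2.2.1 (by
    have h3 := (Subgroup.relIndex_eq_one.1 (show (Caz z a).relIndex
      (Subgroup.centralizer ({z} : Set G)) = 1 from h) S.c_mem).2
    have h4 : c * a * c⁻¹ = a :=
      mul_inv_eq_iff_eq_mul.2 (Subgroup.mem_centralizer_singleton_iff.1 h3)
    rw [S.c_a] at h4
    exact h4)
  have hi2 : i ≠ 2 := fun h => S.b_ne.2.2.1 (by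
    have h5 : (⟨c, S.c_mem⟩ : Subgroup.centralizer ({z} : Set G)) * ⟨c, S.c_mem⟩ ∈
        (Caz z a).subgroupOf (Subgroup.centralizer ({z} : Set G)) :=
      Subgroup.mul_self_mem_of_index_two h _
    rw [Subgroup.mem_subgroupOf] at h5
    have h6 : c * c * (c * c) ∈ Caz z a := mul_mem h5 h5
    have h7 : c * c * (c * c) = c := by
      calc c * c * (c * c) = c ^ 3 * c := by rw [pow_succ, pow_two]; simp only [mul_assoc]
        _ = c := by rw [S.c_pow, one_mul]
    rw [h7] at h6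
    have h4 : c * a * c⁻¹ = a :=
      mul_inv_eq_iff_eq_mul.2 (Subgroup.mem_centralizer_singleton_iff.1 h6.2)
    rw [S.c_a] at h4
    exact h4)
  have hjle : j ≤ 6 := Nat.le_of_dvd (by norm_num) ⟨i, hij.symm⟩
  have : j = 2 := by
    interval_cases j <;> omega
  rw [← h2, this]
  norm_num

/-- A Sylow subgroup of `C(z) ∩ C(a)` containing the core. -/
theorem exists_P (S : Setup4 z a b c J K₀ π) :
    ∃ P : Subgroup G, IsPGroup 2 ↥P ∧ P ≤ Caz z a ∧ J ≤ P ∧ Nat.card P = 2 ^ 18 ∧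
      ∀ p ∈ P, (∀ q ∈ P, Commute p q) → p = 1 ∨ p = a ∨ p = z ∨ p = a * z := by
  haveI : Fact (Nat.Prime 2) := ⟨Nat.prime_two⟩
  have hJX : J ≤ Caz z a := S.J_le.trans (K₀_le_Caz S)
  have hJ2 : IsPGroup 2 ↥(J.subgroupOf (Caz z a)) :=
    (IsPGroup.of_card S.card_J).comap_of_injective _ (Subgroup.subtype_injective _)
  obtain ⟨Q, hQ⟩ := hJ2.exists_le_sylow
  set P : Subgroup G := (Q : Subgroup (Caz z a)).map (Caz z a).subtype with hP
  have hPX : P ≤ Caz z a := Subgroup.map_subtype_le _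
  have hJP : J ≤ P := fun p hp => ⟨⟨p, hJX hp⟩, hQ hp, rfl⟩
  have hcard : Nat.card P = 2 ^ 18 := by
    rw [hP, Subgroup.card_map_of_injective (Subgroup.subtype_injective _), Q.card_eq_multiplicity,
      card_Caz S]
    have : (2 ^ 18 * 405).factorization 2 = 18 := by
      rw [Nat.factorization_mul (by norm_num) (by norm_num), Finsupp.add_apply,
        Nat.Prime.factorization_pow Nat.prime_two, Finsupp.single_eq_same,
        Nat.factorization_eq_zero_of_not_dvd (by norm_num : ¬ 2 ∣ 405)]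
    rw [this]
  refine ⟨P, IsPGroup.of_card hcard, hPX, hJP, hcard, fun p hp hcp => ?_⟩
  have hZ : InZ z a b p :=
    S.center p (S.self_cent p (hPX hp).1 fun j hj => hcp j (hJP hj)) fun j hj => hcp j (hJP hj)
  obtain ⟨x, hxP, hxK⟩ : ∃ x ∈ P, x ∉ K₀ := by
    by_contra hno
    push Not at hno
    have h3 := Subgroup.card_dvd_of_le (show P ≤ K₀ from hno)
    rw [hcard, S.card_K₀] at h3
    norm_num at h3
  have hxa : Commute a x := (Subgroup.mem_centralizer_singleton_iff.1 (hPX hxP).2).symm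
  have hxz : Commute x z := mem_cent_z.1 (hPX hxP).1
  have hxb : x * b * x⁻¹ = a * b := by
    rcases S.conj_W x (hPX hxP).1 b (Or.inr (Or.inr (Or.inl rfl))) with h | h | h | h
    · exfalso
      exact S.b_ne.1 (by simpa [mul_inv_eq_one] using h)
    · exfalso
      have h4 : b = x⁻¹ * a * x := by rw [← h]; group
      rw [mul_assoc, hxa.eq, inv_mul_cancel_left] at h4
      exact S.b_ne.2.2.1 h4
    · exfalso
      exact hxK (S.mem_K₀ x (hPX hxP).1 hxa (mul_inv_eq_iff_eq_mul.1 h).symm)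
    · exact h
  have hbn : ∀ w : G, (w = b ∨ w = a * b) → ¬ Commute w x := by
    intro w hw hc
    have h4 : x * w * x⁻¹ = w := mul_inv_eq_iff_eq_mul.2 hc.symm.eq
    rcases hw with rfl | rfl
    · rw [hxb] at h4
      exact S.a_ne.1 (mul_eq_right.1 h4)
    · rw [← conj_mul_conj, mul_inv_eq_iff_eq_mul.2 hxa.symm.eq, hxb, ← mul_assoc, S.a_sq,
        one_mul] at h4
      exact S.a_ne.1 (mul_eq_right.1 h4.symm)
  have hpx : Commute p x := hcp x hxP
  have hzz : p * z * z = p := by rw [mul_assoc, S.sq, mul_one]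
  rcases hZ with (h | h | h | h) | (h | h | h | h)
  · exact Or.inl h
  · exact Or.inr (Or.inl h)
  · exact absurd (h ▸ hpx) (hbn b (Or.inl rfl))
  · exact absurd (h ▸ hpx) (hbn (a * b) (Or.inr rfl))
  · rw [h, one_mul] at hzz
    exact Or.inr (Or.inr (Or.inl hzz.symm))
  · rw [h] at hzz
    exact Or.inr (Or.inr (Or.inr hzz.symm))
  · exact absurd (h ▸ hpx.mul_left hxz.symm) (hbn b (Or.inl rfl))
  · exact absurd (h ▸ hpx.mul_left hxz.symm) (hbn (a * b) (Or.inr rfl))

theorem isA_a : IsA a b a := Or.inl rfl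

theorem az_ne (S : Setup4 z a b c J K₀ π) : a * z ≠ 1 ∧ a * z ≠ a ∧ a * z ≠ z := by
  refine ⟨fun h => S.a_ne.2 ?_, fun h => S.ne_one (mul_eq_left.1 h),
    fun h => S.a_ne.1 (mul_eq_right.1 h)⟩
  calc a = a * z * z := by rw [mul_assoc, S.sq, mul_one]
    _ = z := by rw [h, one_mul]

/-- A conjugation fixing `az` does not exchange `z` and `a`. -/
theorem no_swap_a (S : Setup4 z a b c J K₀ π) (hD : DeadD z a b) {g : G}
    (h : g * z * g⁻¹ = a) : g * (a * z) * g⁻¹ ≠ a * z := by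
  intro h2
  have h3 := (hD a isA_a).1 g (mul_inv_eq_iff_eq_mul.1 h2) (h ▸ a_commute_z S)
  exact S.a_ne.2 (h.symm.trans h3)

/-- A conjugation fixing `a` does not move `z` to `az`. -/
theorem no_swap_az (S : Setup4 z a b c J K₀ π) (hA : GoodA z a b) {g : G}
    (h : g * z * g⁻¹ = a * z) : g * a * g⁻¹ ≠ a := by
  intro h2
  have hn := hA a isA_a g (mul_inv_eq_iff_eq_mul.1 h2)
    (h ▸ (a_commute_z S).mul_left (Commute.refl z))
  have h3 := fix_z_of_normW S hn (by
    rw [h, mul_assoc, S.sq, mul_one]; exact Or.inr isA_a)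
  exact (az_ne S).2.2 (h.symm.trans h3)

theorem P_center (S : Setup4 z a b c J K₀ π) {P : Subgroup G} (hPX : P ≤ Caz z a) (hJP : J ≤ P) :
    ∀ p, (p = z ∨ p = a ∨ p = a * z) → p ∈ P ∧ ∀ q ∈ P, Commute p q := by
  rintro p (rfl | rfl | rfl)
  · exact ⟨hJP S.z_mem, fun q hq => (mem_cent_z.1 (hPX hq).1).symm⟩
  · exact ⟨hJP S.a_mem,
      fun q hq => Commute.symm (Subgroup.mem_centralizer_singleton_iff.1 (hPX hq).2)⟩
  · exact ⟨mul_mem (hJP S.a_mem) (hJP S.z_mem), fun q hq =>
      (Commute.symm (Subgroup.mem_centralizer_singleton_iff.1 (hPX hq).2)).mul_left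
        (mem_cent_z.1 (hPX hq).1).symm⟩

theorem center_perm (S : Setup4 z a b c J K₀ π) {P : Subgroup G} (hPX : P ≤ Caz z a) (hJP : J ≤ P)
    (hZ : ∀ p ∈ P, (∀ q ∈ P, Commute p q) → p = 1 ∨ p = a ∨ p = z ∨ p = a * z) {g : G}
    (hg : g ∈ Subgroup.normalizer (P : Set G)) :
    ∀ p, (p = z ∨ p = a ∨ p = a * z) →
      g * p * g⁻¹ = z ∨ g * p * g⁻¹ = a ∨ g * p * g⁻¹ = a * z := by
  intro p hp
  obtain ⟨hpP, hpc⟩ := P_center S hPX hJP p hp
  rcases hZ _ ((Subgroup.mem_normalizer_iff.1 hg p).1 hpP) (fun q hq => by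
    have hq' : g⁻¹ * q * g ∈ P := by
      have := (Subgroup.mem_normalizer_iff.1 (inv_mem hg) q).1 hq
      rwa [inv_inv] at this
    have h := (hpc _ hq').map (MulAut.conj g).toMonoidHom
    simpa [mul_assoc] using h) with h | h | h | h
  · exfalso
    have h1 : p = 1 := by simpa [mul_inv_eq_one] using h
    rcases hp with rfl | rfl | rfl
    · exact S.ne_one h1
    · exact S.a_ne.1 h1
    · exact (az_ne S).1 h1
  · exact Or.inr (Or.inl h)
  · exact Or.inl h
  · exact Or.inr (Or.inr h)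

/-- That Sylow subgroup is one of the whole group. -/
theorem exists_sylow (S : Setup4 z a b c J K₀ π) (hD : DeadD z a b) (hA : GoodA z a b) :
    ∃ P : Sylow 2 G, (P : Subgroup G) ≤ Caz z a ∧ J ≤ (P : Subgroup G) ∧
      ∀ p ∈ (P : Subgroup G), (∀ q ∈ (P : Subgroup G), Commute p q) →
        p = 1 ∨ p = a ∨ p = z ∨ p = a * z := by
  haveI : Fact (Nat.Prime 2) := ⟨Nat.prime_two⟩
  obtain ⟨P, hP2, hPX, hJP, hcard, hZ⟩ := exists_P S
  obtain ⟨Q, hPQ⟩ := hP2.exists_le_sylow
  suffices hQP : (Q : Subgroup G) = P from ⟨Q, hQP ▸ hPX, hQP ▸ hJP, hQP ▸ hZ⟩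
  by_contra hne
  have hlt : P < (Q : Subgroup G) := lt_of_le_of_ne hPQ (Ne.symm hne)
  have hRP : (Q : Subgroup G) ⊓ Subgroup.centralizer ({z} : Set G) = P := by
    refine (Subgroup.eq_of_le_of_card_ge (le_inf hPQ (hPX.trans inf_le_left)) ?_).symm
    obtain ⟨n, hn⟩ := IsPGroup.iff_card.1
      (Q.isPGroup'.to_le (inf_le_left : (Q : Subgroup G) ⊓ Subgroup.centralizer ({z} : Set G) ≤ _))
    have hd := Subgroup.card_dvd_of_le
      (inf_le_right : (Q : Subgroup G) ⊓ Subgroup.centralizer ({z} : Set G) ≤ _)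
    rw [hn, S.card_cent] at hd
    rw [hn, hcard]
    refine Nat.pow_le_pow_right (by norm_num) ?_
    by_contra hlt'
    have h19 : (2 : ℕ) ^ 19 ∣ 2 ^ 11 * 155520 := (pow_dvd_pow 2 (by omega)).trans hd
    norm_num at h19
  haveI : Group.IsNilpotent ↥(Q : Subgroup G) := Q.isPGroup'.isNilpotent
  have hnc := normalizerCondition_of_isNilpotent (G := ↥(Q : Subgroup G))
  have hsub : P.subgroupOf (Q : Subgroup G) < ⊤ := by
    rw [lt_top_iff_ne_top, ne_eq, Subgroup.subgroupOf_eq_top]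
    exact hlt.not_ge
  obtain ⟨⟨g, hgQ⟩, hgn, hgP⟩ := SetLike.exists_of_lt (hnc _ hsub)
  have hgN : g ∈ Subgroup.normalizer (P : Set G) := by
    rw [Subgroup.mem_normalizer_iff]
    intro x
    constructor
    · intro hx
      exact (Subgroup.mem_normalizer_iff.1 hgn ⟨x, hPQ hx⟩).1 hx
    · intro hx
      have hxQ : x ∈ (Q : Subgroup G) := by
        have h1 := mul_mem (mul_mem (inv_mem hgQ) (hPQ hx)) hgQ
        simpa [mul_assoc] using h1
      exact (Subgroup.mem_normalizer_iff.1 hgn ⟨x, hxQ⟩).2 hx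
  have hgPn : g ∉ P := hgP
  have hperm := center_perm S hPX hJP hZ hgN
  have hgz : g * z * g⁻¹ ≠ z := fun h => hgPn (hRP ▸
    ⟨hgQ, mem_cent_z.2 (mul_inv_eq_iff_eq_mul.1 h)⟩)
  have hinj : ∀ {x y : G}, g * x * g⁻¹ = g * y * g⁻¹ → x = y := fun h => by simpa using h
  have hback : ∀ q, g * z * g⁻¹ = q → g * q * g⁻¹ = z := by
    intro q hq
    by_contra hne2
    -- otherwise `g` permutes the three involutions cyclically
    have h3 : g ^ 3 * z * (g ^ 3)⁻¹ = z := by
      have e : g ^ 3 * z * (g ^ 3)⁻¹ = g * (g * (g * z * g⁻¹) * g⁻¹) * g⁻¹ := by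
        rw [pow_succ, pow_two]; group
      rw [e]
      refine (three_cycle (f := fun x => g * x * g⁻¹) (fun _ _ h => hinj h) S.a_ne.2.symm
        (az_ne S).2.2.symm (az_ne S).2.1.symm (hperm z (Or.inl rfl))
        (hperm a (Or.inr (Or.inl rfl))) (hperm (a * z) (Or.inr (Or.inr rfl))) hgz).resolve_left ?_
      show ¬ g * (g * z * g⁻¹) * g⁻¹ = z
      rw [hq]
      exact hne2
    refine hgPn ?_
    have hg3 : g ^ 3 ∈ P := hRP ▸ ⟨pow_mem hgQ 3, mem_cent_z.2 (mul_inv_eq_iff_eq_mul.1 h3)⟩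
    obtain ⟨n, hn⟩ := Q.isPGroup' ⟨g, hgQ⟩
    have hn' : g ^ 2 ^ n = 1 := congrArg Subtype.val hn
    obtain ⟨m, hm, hm3⟩ := Nat.chineseRemainder (Nat.Coprime.pow_left n (by norm_num : Nat.Coprime 2 3))
      1 0
    obtain ⟨l, hl⟩ : 3 ∣ m := Nat.modEq_zero_iff_dvd.1 hm3
    have : g = (g ^ 3) ^ l := by
      rw [← pow_mul, ← hl]
      conv_lhs => rw [← pow_one g]
      rw [pow_eq_pow_iff_modEq]
      exact (hm.of_dvd (orderOf_dvd_of_pow_eq_one hn')).symm
    rw [this]
    exact pow_mem hg3 l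
  rcases hperm z (Or.inl rfl) with h | h | h
  · exact hgz h
  · refine no_swap_a S hD h ?_
    rcases hperm (a * z) (Or.inr (Or.inr rfl)) with h' | h' | h'
    · exact absurd (hinj ((hback a h).trans h'.symm)) (az_ne S).2.1.symm
    · exact absurd (hinj (h'.trans h.symm)) (az_ne S).2.2
    · exact h'
  · refine no_swap_az S hA h ?_
    rcases hperm a (Or.inr (Or.inl rfl)) with h' | h' | h'
    · exact absurd (hinj ((hback _ h).trans h'.symm)) (az_ne S).2.1
    · exact h'
    · exact absurd (hinj (h'.trans h.symm)) S.a_ne.2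

/-- The classes of `z`, `a` and `az` are different. -/
theorem not_conj (S : Setup4 z a b c J K₀ π) (hD : DeadD z a b) (hA : GoodA z a b) :
    ¬ IsConj z a ∧ ¬ IsConj z (a * z) ∧ ¬ IsConj a (a * z) := by
  haveI : Fact (Nat.Prime 2) := ⟨Nat.prime_two⟩
  obtain ⟨P, hPX, hJP, hZ⟩ := exists_sylow S hD hA
  have hBurn : ∀ p q, (p = z ∨ p = a ∨ p = a * z) → (q = z ∨ q = a ∨ q = a * z) → IsConj p q →
      ∃ n ∈ Subgroup.normalizer ((P : Subgroup G) : Set G), n * p * n⁻¹ = q := by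
    intro p q hp hq hpq
    obtain ⟨g, hg⟩ := isConj_iff.1 hpq
    have hc : ∀ r, (r = z ∨ r = a ∨ r = a * z) →
        r ∈ Subgroup.centralizer ((P : Subgroup G) : Set G) := fun r hr =>
      Subgroup.mem_centralizer_iff.2 fun x hx => ((P_center S hPX hJP r hr).2 x hx).symm.eq
    obtain ⟨n, hn, e⟩ := P.conj_eq_normalizer_conj_of_mem_centralizer p g⁻¹ (hc p hp)
      (by rw [inv_inv, hg]; exact hc q hq)
    refine ⟨n⁻¹, inv_mem hn, ?_⟩
    rw [inv_inv, ← e, inv_inv, hg]
  -- an element of the normaliser moving one of the three moves `z` to a conjugate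
  have key : ∀ n ∈ Subgroup.normalizer ((P : Subgroup G) : Set G), n * z * n⁻¹ = z := by
    intro n hn
    have hperm := center_perm S hPX hJP hZ hn
    have hinj : ∀ {x y : G}, n * x * n⁻¹ = n * y * n⁻¹ → x = y := fun h => by simpa using h
    rcases hperm z (Or.inl rfl) with h | h | h
    · exact h
    · exfalso
      rcases hperm (a * z) (Or.inr (Or.inr rfl)) with h' | h' | h'
      · -- `z ↦ a ↦ az ↦ z`: the isolation of `z` in `C(az)` isolates `a` in `C(z)`
        have hb2 : Commute (n⁻¹ * c * n) (a * z) := by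
          have h1 : Commute c (n * (a * z) * n⁻¹) := h'.symm ▸ mem_cent_z.1 S.c_mem
          have h2 := h1.map (MulAut.conj n⁻¹).toMonoidHom
          simpa [mul_assoc] using h2
        have h3 : n⁻¹ * c * n * z * (n⁻¹ * c * n)⁻¹ = n⁻¹ * b * n := by
          calc _ = n⁻¹ * (c * (n * z * n⁻¹) * c⁻¹) * n := by group
            _ = _ := by rw [h, S.c_a]
        have h4 : Commute (n⁻¹ * b * n) z := by
          have h1 : Commute b (n * z * n⁻¹) := h.symm ▸ S.ab_comm.symm
          have h2 := h1.map (MulAut.conj n⁻¹).toMonoidHom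
          simpa [mul_assoc] using h2
        have h5 := (hD a isA_a).1 _ hb2 (h3 ▸ h4)
        rw [h3] at h5
        have h6 : b = n * z * n⁻¹ := by rw [← h5]; group
        exact S.b_ne.2.2.1 (h6.trans h)
      · exact (az_ne S).2.2 (hinj (h'.trans h.symm))
      · exact no_swap_a S hD h h'
    · exfalso
      rcases hperm a (Or.inr (Or.inl rfl)) with h' | h' | h'
      · -- `a ↦ z ↦ az ↦ a`
        have h7 : n * (a * z) * n⁻¹ = a := by
          rcases hperm (a * z) (Or.inr (Or.inr rfl)) with h'' | h'' | h''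
          · exact absurd (hinj (h''.trans h'.symm)) (az_ne S).2.1
          · exact h''
          · exact absurd (hinj (h''.trans h.symm)) (az_ne S).2.2
        have hb2 : Commute (n * c * n⁻¹) (a * z) := by
          have h1 := (mem_cent_z.1 S.c_mem).map (MulAut.conj n).toMonoidHom
          simp only [MulEquiv.coe_toMonoidHom, MulAut.conj_apply, h] at h1
          exact h1
        have h3 : n * c * n⁻¹ * z * (n * c * n⁻¹)⁻¹ = n * b * n⁻¹ := by
          calc _ = n * (c * (n⁻¹ * z * n) * c⁻¹) * n⁻¹ := by group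
            _ = n * (c * a * c⁻¹) * n⁻¹ := by
              rw [show n⁻¹ * z * n = a by rw [← h']; group]
            _ = _ := by rw [S.c_a]
        have h4 : Commute (n * b * n⁻¹) z := by
          have h1 := S.ab_comm.symm.map (MulAut.conj n).toMonoidHom
          simp only [MulEquiv.coe_toMonoidHom, MulAut.conj_apply, h'] at h1
          exact h1
        have h5 := (hD a isA_a).1 _ hb2 (h3 ▸ h4)
        rw [h3, ← h'] at h5
        exact S.b_ne.2.2.1 (hinj h5)
      · exact no_swap_az S hA h h'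
      · exact S.a_ne.2 (hinj (h'.trans h.symm))
  refine ⟨fun h => ?_, fun h => ?_, fun h => ?_⟩
  · obtain ⟨n, hn, e⟩ := hBurn z a (Or.inl rfl) (Or.inr (Or.inl rfl)) h
    exact S.a_ne.2 (e.symm.trans (key n hn))
  · obtain ⟨n, hn, e⟩ := hBurn z (a * z) (Or.inl rfl) (Or.inr (Or.inr rfl)) h
    exact (az_ne S).2.2 (e.symm.trans (key n hn))
  · obtain ⟨n, hn, e⟩ := hBurn a (a * z) (Or.inr (Or.inl rfl)) (Or.inr (Or.inr rfl)) h
    have h9 := S.conj_W n (mem_cent_z.2 (mul_inv_eq_iff_eq_mul.1 (key n hn))) a (inW_of_isA isA_a)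
    rw [e] at h9
    have h10 := inW_mul S (inW_of_isA (a := a) (b := b) isA_a) h9
    rw [← mul_assoc, S.a_sq, one_mul] at h10
    exact z_not_inW S h10

/-- The involutions of `W` are the images of `a` under powers of `c`. -/
theorem exists_rot (S : Setup4 z a b c J K₀ π) {e : G} (he : IsA a b e) :
    ∃ g ∈ Subgroup.centralizer ({z} : Set G), g * a * g⁻¹ = e := by
  rcases he with rfl | rfl | rfl
  · exact ⟨1, one_mem _, by group⟩
  · exact ⟨c, S.c_mem, S.c_a⟩
  · refine ⟨c * c, mul_mem S.c_mem S.c_mem, ?_⟩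
    rw [← S.c_b, ← S.c_a]; group

theorem exists_rot_z (S : Setup4 z a b c J K₀ π) {e : G} (he : IsA a b e) :
    ∃ g ∈ Subgroup.centralizer ({z} : Set G), g * a * g⁻¹ = e ∧ g * (a * z) * g⁻¹ = e * z := by
  obtain ⟨g, hg, hga⟩ := exists_rot S he
  exact ⟨g, hg, hga, by rw [← conj_mul_conj g a z, hga, z_fix_of_mem_cent S hg]⟩

/-- `z` is not conjugate to an involution of `W`. -/
theorem z_a (S : Setup4 z a b c J K₀ π) (hD : DeadD z a b) (hG : GoodA z a b) :
    ∀ e, IsA a b e → ¬ IsConj z e := fun e he h => by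
  obtain ⟨g, -, hga, -⟩ := exists_rot_z S he
  exact (not_conj S hD hG).1 (h.trans (isConj_iff.2 ⟨g, hga⟩).symm)

/-- `z` is not conjugate to `ez`. -/
theorem z_d (S : Setup4 z a b c J K₀ π) (hD : DeadD z a b) (hG : GoodA z a b) :
    ∀ e, IsA a b e → ¬ IsConj z (e * z) := fun e he h => by
  obtain ⟨g, -, -, hgd⟩ := exists_rot_z S he
  exact (not_conj S hD hG).2.1 (h.trans (isConj_iff.2 ⟨g, hgd⟩).symm)

/-- `e` is not conjugate to `e'z`. -/
theorem a_d (S : Setup4 z a b c J K₀ π) (hD : DeadD z a b) (hG : GoodA z a b) :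
    ∀ e e', IsA a b e → IsA a b e' → ¬ IsConj e (e' * z) := fun e e' he he' h => by
  obtain ⟨g, -, hga, -⟩ := exists_rot_z S he
  obtain ⟨g', -, -, hgd⟩ := exists_rot_z S he'
  exact (not_conj S hD hG).2.2
    (((isConj_iff.2 ⟨g, hga⟩).trans h).trans (isConj_iff.2 ⟨g', hgd⟩).symm)

/-- A 2-group commuting with `q` moves into the centraliser of `z`, keeping `q`. -/
theorem sylow_into (S : Setup4 z a b c J K₀ π) (hD : DeadD z a b) (hG : GoodA z a b) {q : G}
    (hq : IsA a b q ∨ IsA a b (q * z)) {P : Subgroup G} (hP : IsPGroup 2 ↥P)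
    (hPq : ∀ p ∈ P, Commute p q) :
    ∃ m, Commute m q ∧ ∀ p ∈ P, Commute (m * p * m⁻¹) z := by
  haveI : Fact (Nat.Prime 2) := ⟨Nat.prime_two⟩
  obtain ⟨T, hTX, hJT, -⟩ := exists_sylow S hD hG
  obtain ⟨g, hg, q₀, hq₀, hgq⟩ : ∃ g ∈ Subgroup.centralizer ({z} : Set G), ∃ q₀,
      (q₀ = a ∨ q₀ = a * z) ∧ g * q₀ * g⁻¹ = q := by
    rcases hq with h | h
    · obtain ⟨g, hg, hga, -⟩ := exists_rot_z S h
      exact ⟨g, hg, a, Or.inl rfl, hga⟩
    · obtain ⟨g, hg, -, hgd⟩ := exists_rot_z S h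
      exact ⟨g, hg, a * z, Or.inr rfl, by rw [hgd, mul_assoc, S.sq, mul_one]⟩
  set Tq : Sylow 2 G := g • T with hTq
  have hTqC : (Tq : Subgroup G) ≤ Subgroup.centralizer ({q} : Set G) ∧
      (Tq : Subgroup G) ≤ Subgroup.centralizer ({z} : Set G) := by
    have hmem : ∀ x ∈ (Tq : Subgroup G), Commute x q ∧ Commute x z := by
      intro x hx
      have hx' : ∃ t ∈ (T : Subgroup G), g * t * g⁻¹ = x := by
        obtain ⟨t, ht, e⟩ := hx
        exact ⟨t, ht, e⟩
      obtain ⟨t, ht, rfl⟩ := hx'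
      have h1 : Commute t a := Subgroup.mem_centralizer_singleton_iff.1 (hTX ht).2
      have h2 : Commute t z := mem_cent_z.1 (hTX ht).1
      have h3 : Commute t q₀ := by
        rcases hq₀ with rfl | rfl
        · exact h1
        · exact h1.mul_right h2
      have h4 := h3.map (MulAut.conj g).toMonoidHom
      have h5 := h2.map (MulAut.conj g).toMonoidHom
      simp only [MulEquiv.coe_toMonoidHom, MulAut.conj_apply, hgq, z_fix_of_mem_cent S hg] at h4 h5
      exact ⟨h4, h5⟩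
    exact ⟨fun x hx => Subgroup.mem_centralizer_singleton_iff.2 (hmem x hx).1,
      fun x hx => mem_cent_z.2 (hmem x hx).2⟩
  set Cq := Subgroup.centralizer ({q} : Set G)
  let T' : Sylow 2 Cq := Tq.subtype hTqC.1
  have hP' : IsPGroup 2 ↥(P.subgroupOf Cq) :=
    hP.comap_of_injective Cq.subtype Cq.subtype_injective
  obtain ⟨R, hR⟩ := hP'.exists_le_sylow
  obtain ⟨m, hm⟩ := MulAction.exists_smul_eq Cq R T'
  refine ⟨(m : G), Subgroup.mem_centralizer_singleton_iff.1 m.2, fun p hp => ?_⟩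
  have hpC : p ∈ Cq := Subgroup.mem_centralizer_singleton_iff.2 (hPq p hp)
  have h1 : m * ⟨p, hpC⟩ * m⁻¹ ∈ ((m • R : Sylow 2 Cq) : Subgroup Cq) :=
    Subgroup.smul_mem_pointwise_smul _ (MulAut.conj m) _ (hR (show (⟨p, hpC⟩ : Cq) ∈ P.subgroupOf Cq from hp))
  rw [hm] at h1
  exact mem_cent_z.1 (hTqC.2 h1)

end H53.Fi23C
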